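import Groth.Agent.Lib.Ref1.Frame
import Groth.Agent.Lib.Euler.Coh
import Groth.Prelude.Def_FlatMod2
import Mathlib.Algebra.Category.ModuleCat.Stalk
import Mathlib.LinearAlgebra.Finsupp.LinearCombination

/-!
# Stalkwise projective modules over finite locally free algebras are locally free
-/

set_option autoImplicit false
set_option backward.isDefEq.respectTransparency false
set_option linter.style.haveILetI false

universe u

open CategoryTheory CategoryTheory.Limits AlgebraicGeometry Opposite TopologicalSpace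

noncomputable section

namespace GrothLib.AlgLocFree9

variable {X : Scheme.{u}} (A : Sheaf (Opens.grothendieckTopology X) RingCat.{u}) (φ : X.ringCatSheaf ⟶ A)

/-- The algebra as a module. -/
abbrev aMod : X.Modules := (SheafOfModules.restrictScalars φ).obj (SheafOfModules.unit A)

/-- The stalk of a sheaf of rings. -/
abbrev RS (x : X) : Type u := TopCat.Presheaf.stalk (C := RingCat.{u}) (X := X.carrier) A.obj x

/-- The germ in the stalk of a sheaf of rings. -/
abbrev rgerm (x : X) (U : X.Opens) (hx : x ∈ U) (a : A.obj.obj (op U)) : RS A x :=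
  TopCat.Presheaf.germ (C := RingCat.{u}) (X := X.carrier) A.obj U x hx a

theorem gs (N : X.Modules) {U : X.Opens} (x : X) (hx : x ∈ U) (a : Γ(X, U)) (s : Γ(N, U)) :
    N.presheaf.germ U x hx (a • s) = X.presheaf.germ U x hx a • N.presheaf.germ U x hx s :=
  PresheafOfModules.germ_smul N.val x U hx a s

theorem exists_e (x : X) :
    ∃ e : (aMod A φ).presheaf.stalk x →+ RS A x, Function.Bijective e ∧
      ∀ (U : X.Opens) (hx : x ∈ U) (a : A.obj.obj (op U)),
        e ((aMod A φ).presheaf.germ U x hx a) = rgerm A x U hx a := by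
  let P : TopCat.Presheaf Ab.{u} X.carrier := (aMod A φ).presheaf
  let c : Cocone ((OpenNhds.inclusion x).op ⋙ P) :=
    { pt := AddCommGrpCat.of (RS A x)
      ι :=
        { app := fun U => AddCommGrpCat.ofHom
            (TopCat.Presheaf.germ (C := RingCat.{u}) (X := X.carrier) A.obj U.unop.1 x U.unop.2).hom.toAddMonoidHom
          naturality := fun U V i => AddCommGrpCat.hom_ext (AddMonoidHom.ext fun a =>
            TopCat.Presheaf.germ_res_apply (C := RingCat.{u}) (X := X.carrier) A.obj ((OpenNhds.inclusion x).map i.unop) x V.unop.2 a) } }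
  let e : P.stalk x →+ RS A x := (colimit.desc _ c).hom
  have he : ∀ (U : X.Opens) (hx : x ∈ U) (a : A.obj.obj (op U)),
      e (P.germ U x hx a) = rgerm A x U hx a := fun U hx a =>
    congr($(colimit.ι_desc c (op ⟨U, hx⟩)) a)
  refine ⟨e, ⟨fun p q hpq => ?_, fun r => ?_⟩, he⟩
  · obtain ⟨U, hU, a, rfl⟩ := TopCat.Presheaf.exists_germ_eq P p
    obtain ⟨V, hV, b, rfl⟩ := TopCat.Presheaf.exists_germ_eq P q
    rw [he U hU, he V hV] at hpq
    obtain ⟨W, hW, iU, iV, h⟩ :=
      TopCat.Presheaf.germ_eq (C := RingCat.{u}) (X := X.carrier) A.obj x hU hV a b hpq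
    exact ((TopCat.Presheaf.germ_res_apply P iU x hW a).symm.trans (congrArg (P.germ W x hW) h)).trans
      (TopCat.Presheaf.germ_res_apply P iV x hW b)
  · obtain ⟨U, hU, a, rfl⟩ := TopCat.Presheaf.exists_germ_eq (C := RingCat.{u}) (X := X.carrier) A.obj r
    exact ⟨P.germ U x hU a, he U hU a⟩

/-- Stalkwise projective modules over a finite locally free algebra are stalkwise free. -/
theorem projective_stalk (M : SheafOfModules.{u} A) (x : X)
    (hA : Module.Free (X.presheaf.stalk x) ((aMod A φ).presheaf.stalk x))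
    (hMp : Module.Projective ↑(TopCat.Presheaf.stalk (C := RingCat.{u}) (X := X.carrier) A.obj x)
      ↑(TopCat.Presheaf.stalk (C := Ab.{u}) (X := X.carrier) M.val.presheaf x)) :
    Module.Projective (X.presheaf.stalk x)
      ((show X.Modules from (SheafOfModules.restrictScalars φ).obj M).presheaf.stalk x) := by
  classical
  let N : X.Modules := (SheafOfModules.restrictScalars φ).obj M
  obtain ⟨e, he, hgerm⟩ := exists_e A φ x
  let one : (aMod A φ).presheaf.stalk x := (aMod A φ).presheaf.germ ⊤ x trivial (1 : A.obj.obj (op ⊤))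
  let ψ : X.presheaf.stalk x → RS A x := fun r => e (r • one)
  have hψ : ∀ (U : X.Opens) (hx : x ∈ U) (r : Γ(X, U)),
      ψ (X.presheaf.germ U x hx r) = rgerm A x U hx (φ.hom.app (op U) r) := fun U hx r => by
    have h1 : one = (aMod A φ).presheaf.germ U x hx (1 : A.obj.obj (op U)) := by
      refine (TopCat.Presheaf.germ_res_apply (aMod A φ).presheaf (homOfLE le_top) x hx (1 : A.obj.obj (op ⊤))).symm.trans ?_
      exact congrArg _ (map_one (A.obj.map (homOfLE (le_top (a := U))).op).hom)
    change e (X.presheaf.germ U x hx r • one) = _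
    rw [h1]
    refine (congrArg e (gs (aMod A φ) x hx r (1 : A.obj.obj (op U))).symm).trans ?_
    refine (hgerm U hx _).trans (congrArg (rgerm A x U hx) ?_)
    exact mul_one (φ.hom.app (op U) r : A.obj.obj (op U))
  -- the two compatibilities
  have hP : ∀ (r : X.presheaf.stalk x) (p : (aMod A φ).presheaf.stalk x), e (r • p) = ψ r * e p := by
    intro r p
    obtain ⟨U, hU, r, rfl⟩ := TopCat.Presheaf.exists_germ_eq X.presheaf r
    obtain ⟨V, hV, a, rfl⟩ := TopCat.Presheaf.exists_germ_eq (aMod A φ).presheaf p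
    rw [← TopCat.Presheaf.germ_res_apply X.presheaf (homOfLE inf_le_left) x (⟨hU, hV⟩ : x ∈ U ⊓ V) r,
      ← TopCat.Presheaf.germ_res_apply (aMod A φ).presheaf (homOfLE inf_le_right) x (⟨hU, hV⟩ : x ∈ U ⊓ V) a,
      ← gs, hψ, hgerm]
    refine Eq.trans ?_ (congrArg (_ * ·) (hgerm _ _ _).symm)
    exact map_mul (TopCat.Presheaf.germ (C := RingCat.{u}) (X := X.carrier) A.obj (U ⊓ V) x ⟨hU, hV⟩).hom _ _
  have hM : ∀ (r : X.presheaf.stalk x) (m : N.presheaf.stalk x),
      (r • m : N.presheaf.stalk x) =
        (ψ r • (show TopCat.Presheaf.stalk (C := Ab.{u}) (X := X.carrier) M.val.presheaf x from m) :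
          TopCat.Presheaf.stalk (C := Ab.{u}) (X := X.carrier) M.val.presheaf x) := by
    intro r m
    obtain ⟨U, hU, r, rfl⟩ := TopCat.Presheaf.exists_germ_eq X.presheaf r
    obtain ⟨V, hV, n, rfl⟩ := TopCat.Presheaf.exists_germ_eq N.presheaf m
    rw [← TopCat.Presheaf.germ_res_apply X.presheaf (homOfLE inf_le_left) x (⟨hU, hV⟩ : x ∈ U ⊓ V) r,
      ← TopCat.Presheaf.germ_res_apply N.presheaf (homOfLE inf_le_right) x (⟨hU, hV⟩ : x ∈ U ⊓ V) n,
      ← gs, hψ]
    exact PresheafOfModules.germ_ringCat_smul (R := A.obj) M.val x (U ⊓ V) ⟨hU, hV⟩ _ _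
  -- a splitting
  obtain ⟨s₀, hs₀⟩ := Module.projective_def.1 hMp
  let P := (aMod A φ).presheaf.stalk x
  let E : P ≃+ RS A x := AddEquiv.ofBijective e he
  let s : N.presheaf.stalk x →ₗ[X.presheaf.stalk x] (N.presheaf.stalk x →₀ P) :=
    { toFun := fun m => (s₀ m).mapRange E.symm (map_zero _)
      map_add' := fun a b => by
        refine Finsupp.ext fun i => ?_
        simp
      map_smul' := fun r m => by
        refine Finsupp.ext fun i => E.injective ?_
        simp only [Finsupp.mapRange_apply, RingHom.id_apply, Finsupp.smul_apply, E, AddEquiv.apply_symm_apply]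
        rw [hM, map_smul]
        change ψ r * s₀ m i = e _
        rw [hP]
        exact congrArg (ψ r * ·) ((AddEquiv.ofBijective e he).apply_symm_apply (s₀ m i)).symm }
  let q : (N.presheaf.stalk x →₀ P) →ₗ[X.presheaf.stalk x] N.presheaf.stalk x :=
    Finsupp.lsum (X.presheaf.stalk x) fun m =>
      { toFun := fun p => ((e p) • (show TopCat.Presheaf.stalk (C := Ab.{u}) (X := X.carrier) M.val.presheaf x from m) :
          TopCat.Presheaf.stalk (C := Ab.{u}) (X := X.carrier) M.val.presheaf x)
        map_add' := fun a b => by rw [map_add, add_smul]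
        map_smul' := fun r p => by
          rw [RingHom.id_apply, hM, ← mul_smul, hP] }
  haveI : Module.Projective (X.presheaf.stalk x) (N.presheaf.stalk x →₀ P) := inferInstance
  refine Module.Projective.of_split s q (LinearMap.ext fun m => ?_)
  rw [LinearMap.comp_apply, LinearMap.id_apply]
  refine Eq.trans ?_ (hs₀ m)
  change Finsupp.lsum _ _ ((s₀ m).mapRange E.symm (map_zero _)) = _
  rw [Finsupp.lsum_apply, Finsupp.sum_mapRange_index (fun _ => map_zero _), Finsupp.linearCombination_apply]
  exact Finsupp.sum_congr fun i _ => congrArg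
    (fun t : RS A x => t • (show TopCat.Presheaf.stalk (C := Ab.{u}) (X := X.carrier) M.val.presheaf x from i))
    (E.apply_symm_apply (s₀ m i))

end GrothLib.AlgLocFree9
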